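import Mathlib
import Cfsg.Agent.Helper4.F4

/-!
# Data for `PSU₄(2) ≅ PSp₄(3)` (helper17)

Generators of `Sp₄(3)` and `SU₄(2)` satisfying the relations
`a² = b⁵ = (ab)⁹ = [a,b]³ = [a,bab]² = 1` (modulo the centre), and words in the generators of
`Sp₄(3)` whose values form a chain of transversals.
-/

set_option autoImplicit false

namespace Cfsg.Agent.Helper17.U42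

open Cfsg.Agent.Helper4

/-- `4 × 4` matrices over `ZMod 3`, indexed as the symplectic group wants -/
abbrev M3 : Type := Matrix (Fin 2 ⊕ Fin 2) (Fin 2 ⊕ Fin 2) (ZMod 3)

/-- vectors -/
abbrev V3 : Type := Fin 2 ⊕ Fin 2 → ZMod 3

def Am : M3 := Matrix.fromBlocks !![0, 1; 0, 0] !![0, 2; 1, 0] !![0, 1; 2, 0] !![0, 0; 1, 0]
def Aim : M3 := Matrix.fromBlocks !![0, 1; 0, 0] !![0, 2; 1, 0] !![0, 1; 2, 0] !![0, 0; 1, 0]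
def Bm : M3 := Matrix.fromBlocks !![1, 1; 1, 2] !![2, 1; 1, 0] !![1, 0; 0, 1] !![2, 1; 1, 0]
def Bim : M3 := Matrix.fromBlocks !![2, 1; 1, 0] !![1, 2; 2, 0] !![2, 0; 0, 2] !![1, 1; 1, 2]

def v0 : V3 := Sum.elim ![1, 0] ![0, 0]
def w0 : V3 := Sum.elim ![0, 0] ![1, 0]
def u0 : V3 := Sum.elim ![0, 0] ![0, 1]

/-- a vector as a number -/
def code (x : V3) : ℕ :=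
  (x (Sum.inl 0)).val + 3 * (x (Sum.inl 1)).val + 9 * (x (Sum.inr 0)).val + 27 * (x (Sum.inr 1)).val

def L1 : List (List ℕ) :=
  [[],
  [2, 0, 3],
  [3, 3, 0, 3, 3, 0],
  [3, 0, 2, 0, 2, 0],
  [0, 2, 0, 2, 2, 0],
  [0, 2, 0],
  [3, 3, 0, 3, 0, 2, 2, 0],
  [0, 2, 0, 2, 0, 2, 0],
  [3, 3, 0, 2, 2, 0],
  [2, 2, 0, 2, 2],
  [0, 2, 2, 0],
  [2, 0, 2, 2, 0, 3, 3, 0, 2, 2],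
  [2],
  [0, 2, 2, 0, 2, 0, 2, 0],
  [0, 3, 0, 2, 2, 0],
  [0, 3],
  [0, 2, 2, 0, 3, 3, 0, 2, 2],
  [3, 3, 0, 3, 3, 0, 2, 2],
  [0, 3, 3, 0, 2, 2],
  [2, 0],
  [2, 2, 0, 2, 0, 2, 2, 0],
  [0, 2, 2, 0, 2, 2, 0],
  [3],
  [2, 0, 2, 2, 0, 2, 2, 0],
  [2, 0, 3, 0, 2, 2, 0],
  [3, 0, 3, 0],
  [2, 0, 2, 2],
  [3, 3],
  [3, 0, 2, 0],
  [0, 3, 3, 0, 2, 2, 0],
  [2, 0, 3, 0, 3, 3, 0, 2, 2, 0],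
  [0, 3, 0, 3, 3, 0, 2, 2, 0],
  [3, 3, 0, 2, 2],
  [3, 0, 3, 3, 0],
  [0, 3, 0],
  [3, 0, 3, 3, 0, 2, 2, 0],
  [2, 0, 2, 2, 0],
  [0, 2, 0, 2, 0],
  [2, 0, 3, 3, 0],
  [0, 2, 0, 2, 2, 0, 3, 3, 0, 2, 2],
  [2, 2, 0, 2, 0],
  [3, 0, 2, 0, 2, 0, 2, 0],
  [2, 2, 0, 2, 2, 0],
  [3, 0, 2, 2, 0, 2, 2, 0],
  [3, 0, 2, 0, 2, 2, 0, 2, 2, 0],
  [3, 0],
  [2, 0, 2, 0, 2, 0],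
  [2, 0, 2, 0, 2, 2, 0],
  [2, 2, 0, 3, 0, 2, 2, 0],
  [3, 0, 2, 2, 0],
  [3, 3, 0],
  [2, 0, 2, 0, 2, 2, 0, 2, 2, 0],
  [2, 0, 3, 0, 2, 0, 2, 0],
  [0],
  [2, 2, 0, 3, 3, 0],
  [3, 0, 3],
  [2, 2, 0],
  [2, 2],
  [2, 0, 2, 0],
  [0, 3, 3, 0, 3, 3, 0, 2, 2],
  [0, 3, 0, 3, 3, 0, 3, 3, 0, 2, 2],
  [0, 3, 0, 2, 0, 2, 2, 0, 2, 2, 0],
  [0, 2, 0, 3, 0, 3, 3, 0, 2, 2, 0],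
  [0, 3, 0, 2, 0, 2, 0],
  [0, 2, 2],
  [3, 0, 2, 2],
  [2, 2, 0, 2, 0, 2, 0],
  [2, 0, 2, 0, 2, 2, 0, 3, 3, 0, 2, 2],
  [3, 0, 3, 0, 2, 2, 0],
  [3, 0, 3, 3, 0, 2, 2],
  [3, 0, 2, 0, 2, 2, 0],
  [3, 0, 3, 3, 0, 3, 3, 0, 2, 2],
  [0, 3, 0, 3, 3, 0],
  [2, 0, 3, 3, 0, 2, 2],
  [3, 3, 0, 2, 0, 2, 0],
  [0, 3, 0, 2, 2, 0, 2, 2, 0],
  [2, 2, 0, 3, 3, 0, 2, 2],
  [3, 3, 0, 2, 0],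
  [0, 3, 3, 0],
  [0, 2, 0, 2, 2, 0, 2, 2, 0]]

def C1 : List ℕ := [1, 2, 3, 4, 5, 6, 7, 8, 9, 10, 11, 12, 13, 14, 15, 16, 17, 18, 19, 20, 21, 22, 23, 24, 25, 26, 27, 28, 29, 30, 31, 32, 33, 34, 35, 36, 37, 38, 39, 40, 41, 42, 43, 44, 45, 46, 47, 48, 49, 50, 51, 52, 53, 54, 55, 56, 57, 58, 59, 60, 61, 62, 63, 64, 65, 66, 67, 68, 69, 70, 71, 72, 73, 74, 75, 76, 77, 78, 79, 80]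

def L2 : List (List ℕ) :=
  [[],
  [0, 2, 0, 2, 2, 0, 2, 0, 2, 2],
  [3, 3, 0, 3, 0, 3, 3, 0, 3, 0],
  [2, 2, 0, 3, 0, 3],
  [2, 0, 3, 3, 0, 3, 0, 3, 0, 3, 0, 2],
  [3, 0, 2, 2, 0, 2, 0, 2, 2, 0, 2],
  [2, 0, 2, 0, 3, 3],
  [3, 0, 3, 3, 0, 3, 0, 3, 3, 0, 2],
  [3, 0, 2, 2, 0, 2, 2, 0, 3, 0],
  [2, 0, 3, 3, 0, 2, 2, 0, 3],
  [0, 2, 0, 2, 0, 3, 3, 0, 3, 3],
  [3, 0, 2, 2, 0, 3, 0, 2, 0, 2, 0, 2],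
  [0, 2, 0, 2, 0, 3, 0, 3, 0, 3, 0, 2],
  [2, 2, 0, 2, 2, 0, 2, 2, 0, 3],
  [2, 0, 3, 3, 0, 3, 3, 0, 3, 3],
  [2, 0, 3, 0, 2, 0, 2, 0, 2],
  [0, 3, 0, 2, 0, 2, 0, 3, 3, 0, 2, 0],
  [2, 0, 2, 2, 0, 3, 0, 3, 0, 2],
  [2, 0, 2, 2, 0, 3, 0],
  [0, 2, 0, 3, 0, 3, 3],
  [2, 2, 0, 3, 0, 3, 3, 0, 2],
  [2, 2, 0, 3, 3, 0, 2, 0, 2, 2],
  [2, 0, 2, 0, 2, 2, 0, 2],
  [2, 2, 0, 2, 0, 3, 0],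
  [3, 0, 2],
  [2, 2, 0, 3, 0, 2, 0, 2, 0, 3, 0],
  [3, 0, 3, 0, 3, 0, 3, 3, 0, 3, 0]]

def C2 : List ℕ := [9, 10, 11, 12, 13, 14, 15, 16, 17, 36, 37, 38, 39, 40, 41, 42, 43, 44, 63, 64, 65, 66, 67, 68, 69, 70, 71]

def L3 : List (List ℕ) :=
  [[2, 0, 3, 0, 2, 0, 2, 0, 3, 3, 0, 3, 0, 3],
  [2, 2, 0, 3, 3, 0, 2, 0, 3, 0, 3, 0, 3],
  [],
  [3, 0, 2, 0, 2, 2, 0, 2, 2, 0, 2, 2, 0, 2, 0, 2],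
  [2, 0, 2, 0, 2, 2, 0, 3, 3, 0, 2, 0, 3, 0],
  [0, 2, 0, 2, 0, 3, 0, 3, 0],
  [2, 0, 2, 2, 0, 3, 0, 2, 0, 2, 0, 3, 3],
  [0, 3, 0, 3, 3, 0, 3, 3, 0, 2, 0, 2, 0, 2, 0, 3, 0]]

def C3 : List ℕ := [3, 6, 27, 30, 33, 54, 57, 60]

def Uam : Matrix (Fin 4) (Fin 4) F4 := !![F4.z, F4.z, F4.z, F4.v; F4.z, F4.o, F4.z, F4.z; F4.z, F4.z, F4.o, F4.z; F4.w, F4.z, F4.z, F4.z]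
def Ubm : Matrix (Fin 4) (Fin 4) F4 := !![F4.v, F4.o, F4.o, F4.z; F4.z, F4.o, F4.o, F4.o; F4.v, F4.z, F4.o, F4.o; F4.o, F4.w, F4.z, F4.w]
def Ubim : Matrix (Fin 4) (Fin 4) F4 := !![F4.w, F4.z, F4.w, F4.o; F4.o, F4.o, F4.z, F4.v; F4.o, F4.o, F4.o, F4.z; F4.z, F4.o, F4.o, F4.v]

end Cfsg.Agent.Helper17.U42
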